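import Mathlib
import Cfsg.Agent.Lib.Misc82.FrobFree
import Cfsg.Agent.S4120

/-!
Frobenius groups `F H` of automorphisms with fixed point free kernel on a solvable group:
order formula and covering of fixed points of the complement in quotients.
-/

set_option autoImplicit false

namespace H84.KM

open Subgroup H2 H83

universe u

theorem card_of_fr {k V H : Type*} [Field k] [AddCommGroup V] [Module k V] [Group H] [Fintype H]
    {ρ : Representation k H V} {W : Submodule k V} (h : H82.Fr ρ W) :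
    Nat.card V = Nat.card ρ.invariants ^ Nat.card H := by
  have e0 : Function.Injective fun c : H → W => ∑ g, ρ g (c g) := fun c d hcd => by
    funext g
    have := h.1 (fun g => (c g : V) - d g) (fun g => sub_mem (c g).2 (d g).2) (by
      simp only [map_sub, Finset.sum_sub_distrib]
      exact sub_eq_zero.2 hcd) g
    exact Subtype.ext (sub_eq_zero.1 this)
  have e1 : Function.Bijective fun c : H → W => ∑ g, ρ g (c g) := ⟨e0, fun v => by
    obtain ⟨c, hc, e⟩ := h.2 v
    exact ⟨fun g => ⟨c g, hc g⟩, e⟩⟩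
  have hs : ∀ (s : H) (c : H → V), ρ s (∑ g, ρ g (c g)) = ∑ g, ρ g (c (s⁻¹ * g)) := fun s c => by
    rw [map_sum, ← Equiv.sum_comp (Equiv.mulLeft s) fun g => ρ g (c (s⁻¹ * g))]
    simp
  have e2 : Function.Bijective fun w : W => (⟨∑ g, ρ g w, fun s => hs s fun _ => w⟩ :
      ρ.invariants) := ⟨fun w w' hw => congrFun (@e0 (fun _ => w) (fun _ => w')
        (congrArg Subtype.val hw)) 1, fun v => by
    obtain ⟨c, e⟩ := e1.2 v
    refine ⟨c 1, Subtype.ext ?_⟩
    have h1 : ∀ s, c s = c 1 := fun s => by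
      have := @e0 (fun g => c (s⁻¹⁻¹ * g)) c (by
        change ∑ g, ρ g (c (s⁻¹⁻¹ * g)) = ∑ g, ρ g (c g)
        rw [← hs s⁻¹ fun g => c g]
        exact (congrArg (ρ s⁻¹) e).trans ((v.2 s⁻¹).trans e.symm))
      simpa using congrFun this 1
    rw [← e]
    exact Finset.sum_congr rfl fun g _ => by rw [h1 g]⟩
  rw [← Nat.card_eq_of_bijective _ e1, ← Nat.card_eq_of_bijective _ e2, Nat.card_fun]

variable {A : Type*} [Group A] [Finite A] {F H : Subgroup A}

theorem card_elemAb_aux {V : Type*} [CommGroup V] [Finite V] (φ : A →* MulAut V) [F.Normal]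
    (hF : Group.IsNilpotent F) (hsr : ∀ h ∈ H, h ≠ 1 → F ⊓ centralizer {h} = ⊥)
    (hfix : fixSub φ F = ⊥) {p : ℕ} [Fact p.Prime] [Module (ZMod p) (Additive V)] :
    Nat.card V = Nat.card (fixSub φ H) ^ Nat.card H := by
  let ρ : Representation (ZMod p) A (Additive V) :=
    { toFun := fun g => (MonoidHom.toAdditive (φ g).toMonoidHom).toZModLinearMap p
      map_one' := by ext x; simp
      map_mul' := fun g g' => by ext x; simp }
  have := Fintype.ofFinite H
  obtain ⟨W, hW⟩ := H82.exists_fr (H := H) ρ F hF hsr (fun v hv => by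
    have : v.toMul ∈ fixSub φ F := fun f hf => congrArg Additive.toMul (hv f hf)
    rw [hfix, mem_bot] at this
    exact this)
  have e := card_of_fr hW
  refine e.trans (congrArg (· ^ Nat.card H) (Nat.card_congr
    (Equiv.subtypeEquiv Additive.toMul fun v => ?_)))
  exact ⟨fun hv a ha => congrArg Additive.toMul (hv ⟨a, ha⟩),
    fun hv a => congrArg Additive.ofMul (hv a a.2)⟩

theorem card_elemAb {G : Type*} [Group G] [Finite G] (φ : A →* MulAut G) [F.Normal]
    (hF : Group.IsNilpotent F) (hsr : ∀ h ∈ H, h ≠ 1 → F ⊓ centralizer {h} = ⊥)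
    (hfix : fixSub φ F = ⊥) {V : Subgroup G} (hVi : ∀ a, ∀ x ∈ V, φ a x ∈ V)
    (hVc : IsMulCommutative V) {p : ℕ} [Fact p.Prime] (hVp : ∀ x ∈ V, x ^ p = 1) :
    Nat.card V = Nat.card (V ⊓ fixSub φ H : Subgroup G) ^ Nat.card H := by
  let cg : CommGroup V := { (inferInstance : Group V) with mul_comm := hVc.is_comm.comm }
  let md : Module (ZMod p) (Additive V) :=
    AddCommGroup.zmodModule (fun x => Subtype.ext (hVp x.toMul x.toMul.2))
  have := @card_elemAb_aux A _ _ F H V cg _ (subAut φ V hVi) _ hF hsr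
    (fixSub_subAut_eq_bot φ hfix V hVi) p _ md
  rw [this, ← map_fixSub_subAut φ H V hVi, card_map_of_injective V.subtype_injective]

omit [Finite A] in
theorem exists_elemAb {G : Type*} [Group G] [Finite G] (φ : A →* MulAut G) {N : Subgroup G}
    [N.Normal] (hN : ∀ a, ∀ x ∈ N, φ a x ∈ N) (hs : Group.IsSolvable N) (hne : N ≠ ⊥) :
    ∃ p : ℕ, p.Prime ∧ ∃ V : Subgroup G, V ≤ N ∧ V.Normal ∧ (∀ a, ∀ x ∈ V, φ a x ∈ V) ∧ V ≠ ⊥ ∧
      IsMulCommutative V ∧ ∀ x ∈ V, x ^ p = 1 := by
  have := (nontrivial_iff_ne_bot N).2 hne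
  obtain ⟨p, hp, h⟩ := H1.exists_pCore_ne_bot_of_isSolvable (G := N)
  have := Fact.mk hp
  have : (Cfsg.pCoreOf p N).Normal := by rw [H1.pCoreOf_eq_inf]; infer_instance
  obtain ⟨V, h0, h1, h2, h3, h4, h5, -⟩ := exists_inv_elemAb φ (inv_pCoreOf φ hN p)
    (H1.isPGroup_pCoreOf N) (fun e => h ((map_eq_bot_iff_of_injective _ N.subtype_injective).1 e))
  exact ⟨p, hp, V, h0.trans (map_subtype_le _), h1, h2, h3, h4, h5⟩

/-- The order formula `|G| = |C_G(H)|^|H|` for solvable `G`. -/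
theorem card_eq [F.Normal] (hF : Group.IsNilpotent F)
    (hsr : ∀ h ∈ H, h ≠ 1 → F ⊓ centralizer {h} = ⊥) (n : ℕ) :
    ∀ (G : Type u) [Group G] [Finite G] (φ : A →* MulAut G), Nat.card G = n →
      Group.IsSolvable G → fixSub φ F = ⊥ →
      Nat.card G = Nat.card (fixSub φ H) ^ Nat.card H := by
  induction n using Nat.strong_induction_on with
  | _ n ih =>
  intro G _ _ φ hn hs hfix
  rcases subsingleton_or_nontrivial G with h1 | h1
  · rw [Nat.card_eq_one_iff_unique.2 ⟨h1, inferInstance⟩,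
      Nat.card_eq_one_iff_unique.2 ⟨inferInstance, inferInstance⟩, one_pow]
  obtain ⟨p, hp, V, -, hVn, hVi, hne, hVc, hVp⟩ := exists_elemAb φ (N := ⊤)
    (fun _ _ _ => mem_top _) inferInstance top_ne_bot
  have := Fact.mk hp
  obtain ⟨h2, h3⟩ := Cfsg.Agent.S4120.quot_hyp φ hF le_normalizer_of_normal hsr hfix hVi hVc
    (H3.isPGroup_of_pow_eq_one hVp)
  have h4 := ih _ (hn ▸ H1.card_quotient_lt hne) (G ⧸ V) (quotAut φ V hVi) rfl inferInstance h2
  rw [card_eq_card_quotient_mul_card_subgroup V, h4, card_elemAb φ hF hsr hfix hVi hVc hVp,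
    ← mul_pow, h3, H1.card_map_mk'_eq_relIndex, relIndex,
    card_eq_card_quotient_mul_card_subgroup (V.subgroupOf (fixSub φ H)), ← index_eq_card,
    ← subgroupOf_map_subtype, card_map_of_injective (fixSub φ H).subtype_injective]

/-- Fixed points of `H` are covered modulo a solvable invariant normal subgroup on which `F`
is fixed point free. -/
theorem cover [F.Normal] (hF : Group.IsNilpotent F)
    (hsr : ∀ h ∈ H, h ≠ 1 → F ⊓ centralizer {h} = ⊥) (n : ℕ) :
    ∀ (G : Type u) [Group G] [Finite G] (φ : A →* MulAut G) (N : Subgroup G) [N.Normal],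
      Nat.card N = n → (∀ a, ∀ x ∈ N, φ a x ∈ N) → Group.IsSolvable N → N ⊓ fixSub φ F = ⊥ →
      ∀ g : G, (∀ h ∈ H, g⁻¹ * φ h g ∈ N) → ∃ x ∈ N, g * x ∈ fixSub φ H := by
  induction n using Nat.strong_induction_on with
  | _ n ih =>
  intro G _ _ φ N _ hn hNi hs hfix g hg
  by_cases hne : N = ⊥
  · subst hne
    exact ⟨1, one_mem _, fun h hh => by
      rw [mul_one]; exact (inv_mul_eq_one.1 (mem_bot.1 (hg h hh))).symm⟩
  obtain ⟨p, hp, V, hVN, hVn, hVi, hne, hVc, hVp⟩ := exists_elemAb φ hNi hs hne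
  have := Fact.mk hp
  have hfN : fixSub (subAut φ N hNi) F = ⊥ := by
    rw [← map_eq_bot_iff_of_injective _ N.subtype_injective, map_fixSub_subAut, hfix]
  obtain ⟨_, ⟨y, hy, rfl⟩, h1⟩ := ih _ (by
      rw [← hn, H1.card_map_mk'_eq_relIndex, relIndex,
        card_eq_card_quotient_mul_card_subgroup (V.subgroupOf N), ← index_eq_card]
      refine lt_mul_of_one_lt_right (Nat.pos_of_ne_zero index_ne_zero_of_finite)
        ((one_lt_card_iff_ne_bot _).2 fun e => hne ?_)
      rw [← inf_eq_left.2 hVN, ← subgroupOf_map_subtype, e, Subgroup.map_bot])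
    (G ⧸ V) (quotAut φ V hVi) (N.map (QuotientGroup.mk' V)) rfl (inv_map_mk φ V hVi hNi)
    (Group.isSolvable_of_surjective ((QuotientGroup.mk' V).subgroupMap_surjective N))
    (eq_bot_iff.2 (by
      rintro _ ⟨⟨x, hx, rfl⟩, h⟩
      have h' := (mem_fixSub_quotAut φ F V hVi x).1 h
      have : (⟨x, hx⟩ : N) ∈ V.subgroupOf N := mem_of_fpf_nilpotent (subAut φ N hNi) hF hfN
        ((H3.isPGroup_of_pow_eq_one hVp).comap_subtype) (fun a _ z hz => hVi a z hz) h'
      exact mem_bot.2 ((QuotientGroup.eq_one_iff x).2 this))) (g : G ⧸ V) (fun h hh =>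
        ⟨_, hg h hh, rfl⟩)
  have h2 := (mem_fixSub_quotAut φ H V hVi (g * y)).1 h1
  obtain ⟨z, hz, h3⟩ := exists_mul_mem_fixSub_of_frobenius φ le_normalizer_of_normal hsr hVc hVi
    (eq_bot_iff.2 ((inf_le_inf_right _ hVN).trans hfix.le)) h2
  exact ⟨y * z, mul_mem hy (hVN hz), by rwa [← mul_assoc]⟩

end H84.KM
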